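import Cfsg.Agent.H291.SR.Suz
import Cfsg.Agent.H291.SR.He

/-! Rows `Suz` and `He` of TEAM SR: `Suz.nrel_suz`, `He.nrel_he`. -/
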